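import Cfsg.Agent.H410.BR.OMinusRow
import Cfsg.Agent.H770.CY.Defs

/-!
# S4829: the data of the row of the orthogonal groups of minus type (helper650)

* `hAut_minus` : every automorphism of `PΩ⁻_{2m}(q)`, `m ≥ 4`, is induced by a semisimilarity;
* `polInst_minus` : helper31's `PolInst` (`w = K = m - 1`, `ε = 2`);
* `dvd_minus` : the primes dividing the order of the group.
-/

set_option autoImplicit false

namespace Cfsg.Agent.H650.CY

open Module QuadraticMap Cfsg Cfsg.Agent.H2.Pol Cfsg.Agent.H674.BR Cfsg.Agent.H145.BR Cfsg.Agent.H410.BR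
open Cfsg.Agent.LieClassical Cfsg.Agent.LieClassical.OrthCore Cfsg.Agent.LieClassical.OrthForms
  Cfsg.Agent.LieClassical.OrthTrans Cfsg.Agent.LieClassical.OrthFinite

variable {p : ℕ} [hp : Fact p.Prime] {F : Type} [Field F] [Fintype F] {m : ℕ} {a b : F}

omit [Fintype F] in
/-- the form is good -/
theorem good_minus [Finite F] (hm : 4 ≤ m) (hab : ∀ z₁ z₂ : F, z₁ ^ 2 + a * z₁ * z₂ + b * z₂ ^ 2 = 0 → z₁ = 0 ∧ z₂ = 0) :
    Good (minusForm (m - 1) F a b) := by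
  have := Fintype.ofFinite F
  exact (typ_minus F a b hab (m := m - 1) (by omega)).good (by
    rw [Fintype.card_sum, Fintype.card_sum, Fintype.card_fin, Fintype.card_fin]
    omega)

omit [Fintype F] in
/-- **every automorphism is induced by a semisimilarity** -/
theorem hAut_minus [Finite F] (hm : 4 ≤ m)
    (hab : ∀ z₁ z₂ : F, z₁ ^ 2 + a * z₁ * z₂ + b * z₂ ^ 2 = 0 → z₁ = 0 ∧ z₂ = 0)
    (α : MulAut (Cfsg.POmega F ⇑(minusForm (m - 1) F a b))) :
    ∃ M : ((Fin (m - 1) ⊕ Fin (m - 1)) ⊕ Fin 2 → F) ≃+ ((Fin (m - 1) ⊕ Fin (m - 1)) ⊕ Fin 2 → F),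
      SemiAct (quadPol (minusForm (m - 1) F a b)) M ∧ Induces (omRho (minusForm (m - 1) F a b))
        (QuotientGroup.mk' (Subgroup.center (Cfsg.Omega F ⇑(minusForm (m - 1) F a b)))) M α :=
  H987.BR.om_aut (good_minus hm hab) (quadPol (minusForm (m - 1) F a b)) (fun _ _ => rfl) (fun _ => Iff.rfl)
    (omRho (minusForm (m - 1) F a b)) (fun _ _ => rfl)
    (H987.BR.gamAct_minus (by omega) hab rfl (good_minus hm hab) α)

/-- **the data** -/
theorem polInst_minus (hp2 : p ≠ 2) (hm : 4 ≤ m)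
    (hab : ∀ z₁ z₂ : F, z₁ ^ 2 + a * z₁ * z₂ + b * z₂ ^ 2 = 0 → z₁ = 0 ∧ z₂ = 0) :
    H31.BR.PolInst p (quadPol (minusForm (m - 1) F a b)) (isometryHom (minusForm (m - 1) F a b))
      (Cfsg.Omega F ⇑(minusForm (m - 1) F a b)).subtype (omRho (minusForm (m - 1) F a b))
      (QuotientGroup.mk' (Subgroup.center (Cfsg.Omega F ⇑(minusForm (m - 1) F a b)))) (m - 1) 2 (m - 1) :=
  polInst_om hp2 (typ_minus F a b hab (m := m - 1) (by omega)) (good_minus hm hab) le_rfl (Or.inl (by norm_num))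
    fun α _ => hAut_minus hm hab α

/-- the primes dividing the order -/
theorem dvd_minus (hm : 4 ≤ m) (hab : ∀ z₁ z₂ : F, z₁ ^ 2 + a * z₁ * z₂ + b * z₂ ^ 2 = 0 → z₁ = 0 ∧ z₂ = 0)
    (hpF : (p : F) ≠ 0) (hd : p ∣ Nat.card (POmega F (quadFormMinus (m - 1) F a b))) :
    p ∣ (Nat.card F ^ (m - 1 + 1) + 1) * ∏ i ∈ Finset.range (m - 1), (Nat.card F ^ (2 * (i + 1)) - 1) := by
  have hpq := not_dvd_card hpF
  have h2 := S0294.result (F := F) rfl m hm a b hab
  have h3 : p ∣ Fintype.card F ^ (m * (m - 1)) *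
      ((Fintype.card F ^ m + 1) * ∏ i ∈ Finset.range (m - 1), (Fintype.card F ^ (2 * (i + 1)) - 1)) := by
    rw [← mul_assoc, ← h2]
    exact hd.mul_left _
  rw [Nat.card_eq_fintype_card, Nat.sub_add_cancel (by omega : 1 ≤ m)]
  rcases hp.out.dvd_mul.1 h3 with h4 | h4
  · exact absurd (hp.out.dvd_of_dvd_pow h4) hpq
  · exact h4

end Cfsg.Agent.H650.CY
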